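import Mathlib
import Groth.Prelude.Def_W4c5nonratstablectREq
import Groth.Agent.Chow.Coords
import Groth.Agent.ProperFin.PnBase

/-!
The affine line inside the projective line, and direct R-links from lines.
-/

set_option autoImplicit false
set_option backward.isDefEq.respectTransparency false

universe u

open CategoryTheory CategoryTheory.Limits AlgebraicGeometry

noncomputable section

namespace Groth.Agent.REq71

open Groth.Agent.Chow

variable (K : Type u) [Field K]

/-- Dehomogenisation `(X₀, X₁) ↦ (1, t)`. -/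
def dehom01 : MvPolynomial (Fin (1 + 1)) K →+* Polynomial K :=
  MvPolynomial.eval₂Hom Polynomial.C ![1, Polynomial.X]

/-- The chart ring is the polynomial ring. -/
theorem exists_line : ∃ j : Spec (CommRingCat.of (Polynomial K)) ⟶ REq.P1K K,
    IsOpenImmersion j ∧ j ≫ REq.P1K.toSpec K = Spec.map (CommRingCat.ofHom Polynomial.C) := by
  have h0 : IsUnit (dehom01 K (MvPolynomial.X 0)) := by simp [dehom01]
  let φ := away (dehom01 K) (MvPolynomial.X 0) h0
  let ψ : Polynomial K →+* HomogeneousLocalization.Away (CohB1.polyGrading 1 K)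
      (MvPolynomial.X (0 : Fin (1 + 1))) :=
    Polynomial.eval₂RingHom (scal 1 K _) (dh 1 K 0 (MvPolynomial.X 1))
  have h01 : dehom01 K (MvPolynomial.X 0) = 1 := by simp [dehom01]
  have hφdh : ∀ p, φ (dh 1 K 0 p) = dehom01 K p := fun p =>
    RingHom.congr_fun (away_dh (dehom01 K) 0 h0 h01) p
  have hψφ : ψ.comp φ = RingHom.id _ := by
    refine RingHom.ext fun y => ?_
    obtain ⟨z, rfl⟩ := ZetaLib.dehom_surjective (CohB1.polyGrading 1 K) (X_mem (0 : Fin (1 + 1))) y
    have : ψ.comp (dehom01 K) = dh 1 K 0 := by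
      refine MvPolynomial.ringHom_ext (fun r => ?_) fun i => ?_
      · simp [ψ, dehom01, dh_C]
      · fin_cases i
        · simp [ψ, dehom01]
          rw [dh, ZetaLib.dehom_of_mem _ _ (X_mem (0 : Fin (1 + 1)))]
          refine (HomogeneousLocalization.val_injective _ ?_).symm
          simp [Localization.mk_self
            ⟨(MvPolynomial.X 0 : MvPolynomial (Fin (1 + 1)) K), Submonoid.mem_powers _⟩]
        · simp [ψ, dehom01]
    exact (congrArg ψ (hφdh z)).trans (RingHom.congr_fun this z)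
  have hφψ : φ.comp ψ = RingHom.id _ := by
    refine Polynomial.ringHom_ext (fun r => ?_) ?_
    · simp only [ψ, RingHom.comp_apply, Polynomial.coe_eval₂RingHom, Polynomial.eval₂_C, RingHom.id_apply]
      refine ((congrArg φ (dh_C (0 : Fin (1 + 1)) r)).symm.trans (hφdh _)).trans ?_
      simp [dehom01]
    · simp only [ψ, RingHom.comp_apply, Polynomial.coe_eval₂RingHom, Polynomial.eval₂_X, RingHom.id_apply]
      rw [hφdh]
      simp [dehom01]
  haveI : IsIso (CommRingCat.ofHom φ) :=
    ⟨⟨CommRingCat.ofHom ψ, CommRingCat.hom_ext hψφ, CommRingCat.hom_ext hφψ⟩⟩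
  obtain ⟨e, he⟩ := Groth.Agent.ProperFin.exists_iso_projSpaceOver 1 K
  refine ⟨(Spec.map (CommRingCat.ofHom φ) ≫ Proj.awayι (CohB1.polyGrading 1 K) (MvPolynomial.X 0)
    (X_mem (0 : Fin (1 + 1))) one_pos) ≫ e.inv, inferInstance, ?_⟩
  rw [Category.assoc, Category.assoc,
    show e.inv ≫ REq.P1K.toSpec K = CohB1.ProjSpace.toSpec 1 K by rw [Iso.inv_comp_eq, he],
    show Proj.awayι (CohB1.polyGrading 1 K) (MvPolynomial.X 0) (X_mem (0 : Fin (1 + 1))) one_pos ≫
      CohB1.ProjSpace.toSpec 1 K = _ from chart_toSpec _ (X_mem (0 : Fin (1 + 1))) one_pos, ← Spec.map_comp,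
    ← CommRingCat.ofHom_comp]
  congr 2
  refine RingHom.ext fun r => ?_
  rw [RingHom.comp_apply, ← dh_C, hφdh]
  simp [dehom01]

/-- The rational point `c` of the affine line. -/
abbrev linePt (c : K) : Spec (CommRingCat.of K) ⟶ Spec (CommRingCat.of (Polynomial K)) :=
  Spec.map (CommRingCat.ofHom (Polynomial.evalRingHom c))

variable {K}
variable {k : Type u} [Field k] {X : Scheme.{u}} {f : X ⟶ Spec (CommRingCat.of k)} [Algebra k K]

theorem elemLink_of_line (A B : REq.Pts f K) (W : (Spec (CommRingCat.of (Polynomial K))).Opens)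
    (h : (W : Scheme.{u}) ⟶ X)
    (hc : h ≫ f = W.ι ≫ Spec.map (CommRingCat.ofHom (algebraMap k (Polynomial K))))
    (a b : Spec (CommRingCat.of K) ⟶ (W : Scheme.{u}))
    (ha : a ≫ W.ι = linePt K 0) (hb : b ≫ W.ι = linePt K 1)
    (hA : a ≫ h = A.1) (hB : b ≫ h = B.1) : REq.ElemLink f K A B := by
  obtain ⟨j, hj, hjs⟩ := exists_line K
  let i := W.ι ≫ j
  have hi : i.isoOpensRange.hom ≫ i.opensRange.ι = W.ι ≫ j := Scheme.Hom.isoOpensRange_hom_ι i
  have hsec : ∀ (c : K) (p : Spec (CommRingCat.of K) ⟶ (W : Scheme.{u})), p ≫ W.ι = linePt K c →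
      (p ≫ i.isoOpensRange.hom) ≫ i.opensRange.ι ≫ REq.P1K.toSpec K = 𝟙 _ := fun c p hp => by
    rw [Category.assoc, reassoc_of% hi, hjs, reassoc_of% hp, ← Spec.map_comp, ← CommRingCat.ofHom_comp,
      show (Polynomial.evalRingHom c).comp Polynomial.C = RingHom.id K from RingHom.ext fun r => by simp]
    exact Spec.map_id _
  refine ⟨i.opensRange, i.isoOpensRange.inv ≫ h, a ≫ i.isoOpensRange.hom, b ≫ i.isoOpensRange.hom, ?_,
    hsec 0 a ha, hsec 1 b hb, by simp [hA], by simp [hB]⟩
  rw [Category.assoc, Iso.inv_comp_eq, hc, reassoc_of% hi, reassoc_of% hjs, REq.specMap, ← Spec.map_comp,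
    ← CommRingCat.ofHom_comp]
  rfl

end Groth.Agent.REq71
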