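import Mathlib
import Groth.Agent.REq71.Line

/-!
Points of retract rational varieties are directly R-linked on an open.
-/

set_option autoImplicit false
set_option backward.isDefEq.respectTransparency false

universe u

open CategoryTheory CategoryTheory.Limits AlgebraicGeometry

noncomputable section

namespace Groth.Agent.REq71

variable {k : Type u} [Field k]

/-- The structure morphism of affine space. -/
abbrev affStr (k : Type u) [Field k] (n : ℕ) :
    Spec (CommRingCat.of (MvPolynomial (Fin n) k)) ⟶ Spec (CommRingCat.of k) :=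
  Spec.map (CommRingCat.ofHom (algebraMap k (MvPolynomial (Fin n) k)))

theorem elemLink_retract {Y : Scheme.{u}} {g : Y ⟶ Spec (CommRingCat.of k)} {n : ℕ}
    {V : (Spec (CommRingCat.of (MvPolynomial (Fin n) k))).Opens}
    {a : Y ⟶ (V : Scheme.{u})} {b : (V : Scheme.{u}) ⟶ Y} (hab : a ≫ b = 𝟙 Y)
    (ha : a ≫ V.ι ≫ affStr k n = g) (hb : b ≫ g = V.ι ≫ affStr k n)
    (K : Type u) [Field K] [Algebra k K] (A B : REq.Pts g K) : REq.ElemLink g K A B := by
  let α := Spec.preimage (A.1 ≫ a ≫ V.ι)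
  let β := Spec.preimage (B.1 ≫ a ≫ V.ι)
  have hαC : α.hom.comp (algebraMap k (MvPolynomial (Fin n) k)) = algebraMap k K := by
    refine congrArg CommRingCat.Hom.hom (Spec.map_injective (?_ : Spec.map
      (CommRingCat.ofHom (algebraMap k (MvPolynomial (Fin n) k)) ≫ α) = Spec.map (CommRingCat.ofHom (algebraMap k K))))
    rw [Spec.map_comp, Spec.map_preimage, Category.assoc, Category.assoc, ha]
    exact A.2
  have hβC : β.hom.comp (algebraMap k (MvPolynomial (Fin n) k)) = algebraMap k K := by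
    refine congrArg CommRingCat.Hom.hom (Spec.map_injective (?_ : Spec.map
      (CommRingCat.ofHom (algebraMap k (MvPolynomial (Fin n) k)) ≫ β) = Spec.map (CommRingCat.ofHom (algebraMap k K))))
    rw [Spec.map_comp, Spec.map_preimage, Category.assoc, Category.assoc, ha]
    exact B.2
  let L : MvPolynomial (Fin n) k →+* Polynomial K :=
    MvPolynomial.eval₂Hom (algebraMap k (Polynomial K)) fun i =>
      Polynomial.C (α.hom (MvPolynomial.X i)) +
        Polynomial.X * Polynomial.C (β.hom (MvPolynomial.X i) - α.hom (MvPolynomial.X i))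
  have hend : ∀ (c : K) (γ : MvPolynomial (Fin n) k →+* K),
      γ.comp (algebraMap k _) = algebraMap k K →
      (∀ i, α.hom (MvPolynomial.X i) + c * (β.hom (MvPolynomial.X i) - α.hom (MvPolynomial.X i)) =
        γ (MvPolynomial.X i)) →
      linePt K c ≫ Spec.map (CommRingCat.ofHom L) = Spec.map (CommRingCat.ofHom γ) := fun c γ hC hX => by
    rw [← Spec.map_comp, ← CommRingCat.ofHom_comp]
    congr 2
    refine MvPolynomial.ringHom_ext (fun r => ?_) fun i => ?_
    · rw [← MvPolynomial.algebraMap_eq, show γ (algebraMap k _ r) = algebraMap k K r from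
        RingHom.congr_fun hC r]
      simp [L, Polynomial.algebraMap_apply]
    · simp [L, hX i]
  have hA0 : linePt K 0 ≫ Spec.map (CommRingCat.ofHom L) = A.1 ≫ a ≫ V.ι :=
    (hend 0 α.hom hαC (fun i => by simp)).trans (Spec.map_preimage _)
  have hB1 : linePt K 1 ≫ Spec.map (CommRingCat.ofHom L) = B.1 ≫ a ≫ V.ι :=
    (hend 1 β.hom hβC (fun i => by simp)).trans (Spec.map_preimage _)
  let W := Spec.map (CommRingCat.ofHom L) ⁻¹ᵁ V
  let l : (W : Scheme.{u}) ⟶ (V : Scheme.{u}) := Spec.map (CommRingCat.ofHom L) ∣_ V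
  have hl : l ≫ V.ι = W.ι ≫ Spec.map (CommRingCat.ofHom L) := morphismRestrict_ι _ _
  have hmem : ∀ (c : K) (P : REq.Pts g K),
      linePt K c ≫ Spec.map (CommRingCat.ofHom L) = P.1 ≫ a ≫ V.ι →
      ∃ p : Spec (CommRingCat.of K) ⟶ (W : Scheme.{u}), p ≫ W.ι = linePt K c ∧ p ≫ l ≫ b = P.1 :=
    fun c P hc => by
      have hr : Set.range (linePt K c) ⊆ Set.range W.ι := by
        rw [Scheme.Opens.range_ι]
        rintro _ ⟨z, rfl⟩
        show Spec.map (CommRingCat.ofHom L) (linePt K c z) ∈ V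
        rw [← Scheme.Hom.comp_apply, hc, Scheme.Hom.comp_apply, Scheme.Hom.comp_apply]
        exact ((a (P.1 z))).2
      refine ⟨IsOpenImmersion.lift W.ι _ hr, IsOpenImmersion.lift_fac _ _ _, ?_⟩
      have : IsOpenImmersion.lift W.ι (linePt K c) hr ≫ l = P.1 ≫ a := by
        rw [← cancel_mono V.ι, Category.assoc, hl, IsOpenImmersion.lift_fac_assoc, Category.assoc, hc]
      rw [reassoc_of% this, hab, Category.comp_id]
  obtain ⟨p, hp, hpA⟩ := hmem 0 A hA0
  obtain ⟨q, hq, hqB⟩ := hmem 1 B hB1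
  refine elemLink_of_line A B W (l ≫ b) ?_ p q hp hq hpA hqB
  rw [Category.assoc, hb, reassoc_of% hl, affStr, ← Spec.map_comp, ← CommRingCat.ofHom_comp]
  congr 3
  exact RingHom.ext fun r => by simp [L]

variable {X : Scheme.{u}} {f : X ⟶ Spec (CommRingCat.of k)}

theorem elemLink_ι {U : X.Opens} {K : Type u} [Field K] [Algebra k K] {A B : REq.Pts (U.ι ≫ f) K}
    {A' B' : REq.Pts f K} (hA : A.1 ≫ U.ι = A'.1) (hB : B.1 ≫ U.ι = B'.1)
    (h : REq.ElemLink (U.ι ≫ f) K A B) : REq.ElemLink f K A' B' := by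
  obtain ⟨U', m, a, b, hm, ha, hb, hA1, hB1⟩ := h
  exact ⟨U', m ≫ U.ι, a, b, by rw [Category.assoc, hm], ha, hb,
    by rw [reassoc_of% hA1, hA], by rw [reassoc_of% hB1, hB]⟩

theorem exists_ratPt [Infinite k] {n : ℕ} (V : (Spec (CommRingCat.of (MvPolynomial (Fin n) k))).Opens)
    (hV : (V : Set ↥(Spec (CommRingCat.of (MvPolynomial (Fin n) k)))).Nonempty) :
    ∃ v : Spec (CommRingCat.of k) ⟶ (V : Scheme.{u}), v ≫ V.ι ≫ affStr k n = 𝟙 _ := by
  obtain ⟨x, hx⟩ := hV
  obtain ⟨_, ⟨p, rfl⟩, hxp, hpV⟩ :=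
    PrimeSpectrum.isTopologicalBasis_basic_opens.exists_subset_of_mem_open hx V.2
  have hp : p ≠ 0 := fun h => by simp [h] at hxp
  obtain ⟨c, hc⟩ : ∃ c : Fin n → k, MvPolynomial.eval c p ≠ 0 := by
    by_contra hall
    simp only [not_exists, not_not] at hall
    exact hp (MvPolynomial.funext fun c => by simp [hall c])
  have hr : Set.range (Spec.map (CommRingCat.ofHom (MvPolynomial.eval c))) ⊆ Set.range V.ι := by
    rw [Scheme.Opens.range_ι]
    rintro _ ⟨z, rfl⟩
    refine hpV ?_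
    show p ∉ Ideal.comap (MvPolynomial.eval c) z.asIdeal
    rw [Ideal.mem_comap]
    exact fun h => z.isPrime.ne_top (z.asIdeal.eq_top_of_isUnit_mem h (isUnit_iff_ne_zero.2 hc))
  refine ⟨IsOpenImmersion.lift V.ι _ hr, ?_⟩
  rw [IsOpenImmersion.lift_fac_assoc, affStr, ← Spec.map_comp, ← CommRingCat.ofHom_comp,
    show (MvPolynomial.eval c).comp (algebraMap k (MvPolynomial (Fin n) k)) = RingHom.id k from
      RingHom.ext fun r => by simp]
  exact Spec.map_id _

end Groth.Agent.REq71
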