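import Mathlib
import Groth.Agent.REq71.Retract
import Groth.Agent.GrpdLib.ProjVec
import Groth.Agent.Chow.Segre

/-!
Points of projective space in an open subset are directly R-linked.
-/

set_option autoImplicit false
set_option backward.isDefEq.respectTransparency false

universe u

open CategoryTheory CategoryTheory.Limits AlgebraicGeometry

noncomputable section

namespace Groth.Agent.REq71

open Groth.Agent.Chow Groth.Agent.GrpdLib.ProjVec

variable {k : Type u} [Field k] {n : ℕ}

/-- Coordinates over an affine scheme. -/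
def evOf {A : Type u} [CommRing A] (ι : k →+* A) (x : Fin (n + 1) → A) :
    MvPolynomial (Fin (n + 1)) k →+* Γ(Spec (CommRingCat.of A), ⊤) :=
  (Scheme.ΓSpecIso (CommRingCat.of A)).inv.hom.comp (MvPolynomial.eval₂Hom ι x)

theorem span_evOf {A : Type u} [CommRing A] (ι : k →+* A) (x : Fin (n + 1) → A)
    (h : Ideal.span (Set.range x) = ⊤) :
    Ideal.span (Set.range fun i => evOf ι x (MvPolynomial.X i)) = ⊤ := by
  have := congrArg (Ideal.map (Scheme.ΓSpecIso (CommRingCat.of A)).inv.hom) h
  rw [Ideal.map_span, Ideal.map_top, ← Set.range_comp] at this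
  simpa [Function.comp_def, evOf] using this

/-- The point with given coordinates. -/
def vec {A : Type u} [CommRing A] (ι : k →+* A) (x : Fin (n + 1) → A) (h : Ideal.span (Set.range x) = ⊤) :
    Spec (CommRingCat.of A) ⟶ Pr n k :=
  vecHom (evOf ι x) (span_evOf ι x h)

theorem vec_congr {A : Type u} [CommRing A] {ι ι' : k →+* A} {x x' : Fin (n + 1) → A} (hι : ι = ι') (hx : x = x')
    (h : Ideal.span (Set.range x) = ⊤) (h' : Ideal.span (Set.range x') = ⊤) : vec ι x h = vec ι' x' h' := by
  subst hι hx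
  rfl

theorem vec_str {A : Type u} [CommRing A] (ι : k →+* A) (x : Fin (n + 1) → A) (h : Ideal.span (Set.range x) = ⊤) :
    vec ι x h ≫ str n k = Spec.map (CommRingCat.ofHom ι) := by
  rw [vec, vecHom_str,
    show (evOf ι x).comp MvPolynomial.C = (Scheme.ΓSpecIso (CommRingCat.of A)).inv.hom.comp ι from
      RingHom.ext fun r => by simp [evOf],
    CommRingCat.ofHom_comp, CommRingCat.ofHom_hom, Spec.map_comp, toSpecΓ_SpecMap_ΓSpecIso_inv_assoc]

theorem map_vec {A B : Type u} [CommRing A] [CommRing B] (φ : A →+* B) (ι : k →+* A) (x : Fin (n + 1) → A)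
    (h : Ideal.span (Set.range x) = ⊤) (h' : Ideal.span (Set.range (φ ∘ x)) = ⊤) :
    Spec.map (CommRingCat.ofHom φ) ≫ vec ι x h = vec (φ.comp ι) (φ ∘ x) h' := by
  rw [vec, vecHom_naturality, vec]
  have hnat : ∀ a, (Spec.map (CommRingCat.ofHom φ)).appTop ((Scheme.ΓSpecIso (CommRingCat.of A)).inv a) =
      (Scheme.ΓSpecIso (CommRingCat.of B)).inv (φ a) := fun a =>
    (CategoryTheory.congr_fun (Scheme.ΓSpecIso_inv_naturality (CommRingCat.ofHom φ)) a).symm
  congr 1
  refine MvPolynomial.ringHom_ext (fun r => ?_) fun i => ?_ <;> simp [res, evOf, hnat]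

theorem exists_vec {K : Type u} [Field K] [Algebra k K] (z : Spec (CommRingCat.of K) ⟶ Pr n k)
    (hz : z ≫ str n k = Spec.map (CommRingCat.ofHom (algebraMap k K))) :
    ∃ (x : Fin (n + 1) → K) (h : Ideal.span (Set.range x) = ⊤), z = vec (algebraMap k K) x h := by
  obtain ⟨p⟩ : Nonempty (Spec (CommRingCat.of K)) := inferInstanceAs (Nonempty (PrimeSpectrum K))
  obtain ⟨i, hi⟩ := exists_mem_chart (R := k) (y := z p)
  haveI : Subsingleton (Spec (CommRingCat.of K)) := inferInstanceAs (Subsingleton (PrimeSpectrum K))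
  have hr : Set.range z ⊆ Set.range (chart n k i) := by
    rintro _ ⟨q, rfl⟩
    rw [Subsingleton.elim q p]
    show z p ∈ (chart n k i).opensRange
    rw [Proj.opensRange_awayι]
    exact hi
  let a := IsOpenImmersion.lift (chart n k i) z hr
  have ha : a ≫ chart n k i = z := IsOpenImmersion.lift_fac _ _ _
  have hzpt := (comp_chart_eq_pt i a).symm.trans ha
  have hC : (coords i a).comp MvPolynomial.C =
      (Scheme.ΓSpecIso (CommRingCat.of K)).inv.hom.comp (algebraMap k K) := by
    refine toSpecΓ_SpecMap_injective (T := Spec (CommRingCat.of K)) (C := CommRingCat.of k) ?_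
    rw [← pt_toSpec (coords i a) (X_mem i) one_pos (by rw [coords_self]; exact isUnit_one), hzpt, hz,
      CommRingCat.ofHom_comp, CommRingCat.ofHom_hom, Spec.map_comp, toSpecΓ_SpecMap_ΓSpecIso_inv_assoc]
  let x : Fin (n + 1) → K := fun j => (Scheme.ΓSpecIso (CommRingCat.of K)).hom (coords i a (MvPolynomial.X j))
  have hev : coords i a = evOf (algebraMap k K) x := by
    refine MvPolynomial.ringHom_ext (fun r => ?_) fun j => ?_
    · rw [← RingHom.comp_apply (coords i a), hC]
      simp [evOf]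
    · simp only [evOf, RingHom.comp_apply, MvPolynomial.eval₂Hom_X', x]
      exact ((CategoryTheory.congr_fun (Scheme.ΓSpecIso (CommRingCat.of K)).hom_inv_id _)).symm
  have hx1 : x i = 1 := by simp [x, coords_self]
  have hspan : Ideal.span (Set.range x) = ⊤ :=
    (Ideal.eq_top_iff_one _).2 (Ideal.subset_span ⟨i, hx1⟩)
  refine ⟨x, hspan, ?_⟩
  have hu : IsUnit (res (𝟙 _) (evOf (algebraMap k K) x) (MvPolynomial.X i)) := by
    simp [res, evOf, hx1]
  rw [vec, ← Category.id_comp (vecHom _ _), comp_vecHom (𝟙 _) _ _ i hu, ← hzpt]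
  exact pt_congr (by rw [hev]; exact RingHom.ext fun q => by simp [res]) rfl rfl _ _ _ _ _ _

theorem elemLink_opens (V : (Pr n k).Opens) (K : Type u) [Field K] [Algebra k K]
    (A B : REq.Pts (V.ι ≫ str n k) K) : REq.ElemLink (V.ι ≫ str n k) K A B := by
  obtain ⟨x, hx, hA⟩ := exists_vec (A.1 ≫ V.ι) (by rw [Category.assoc]; exact A.2)
  obtain ⟨y, hy, hB⟩ := exists_vec (B.1 ≫ V.ι) (by rw [Category.assoc]; exact B.2)
  suffices hline : ∃ m : Spec (CommRingCat.of (Polynomial K)) ⟶ Pr n k,
      m ≫ str n k = Spec.map (CommRingCat.ofHom (algebraMap k (Polynomial K))) ∧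
      linePt K 0 ≫ m = A.1 ≫ V.ι ∧ linePt K 1 ≫ m = B.1 ≫ V.ι by
    obtain ⟨m, hm, hm0, hm1⟩ := hline
    have hmem : ∀ (c : K) (P : REq.Pts (V.ι ≫ str n k) K), linePt K c ≫ m = P.1 ≫ V.ι →
        ∃ p : Spec (CommRingCat.of K) ⟶ ((m ⁻¹ᵁ V : (Spec (CommRingCat.of (Polynomial K))).Opens) : Scheme.{u}),
          p ≫ (m ⁻¹ᵁ V).ι = linePt K c ∧ p ≫ (m ∣_ V) = P.1 := fun c P hc => by
      have hr : Set.range (linePt K c) ⊆ Set.range (m ⁻¹ᵁ V).ι := by
        rw [Scheme.Opens.range_ι]
        rintro _ ⟨q, rfl⟩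
        show m (linePt K c q) ∈ V
        rw [← Scheme.Hom.comp_apply, hc, Scheme.Hom.comp_apply]
        exact (P.1 q).2
      refine ⟨IsOpenImmersion.lift _ _ hr, IsOpenImmersion.lift_fac _ _ _, ?_⟩
      rw [← cancel_mono V.ι, Category.assoc, morphismRestrict_ι, IsOpenImmersion.lift_fac_assoc, hc]
    obtain ⟨p, hp, hpA⟩ := hmem 0 A hm0
    obtain ⟨q, hq, hqB⟩ := hmem 1 B hm1
    exact elemLink_of_line A B (m ⁻¹ᵁ V) (m ∣_ V) (by rw [morphismRestrict_ι_assoc, hm]) p q hp hq hpA hqB
  by_cases hprop : ∀ i j, x i * y j = x j * y i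
  · have hAB : A.1 ≫ V.ι = B.1 ≫ V.ι := by
      rw [hA, hB, vec, vec, vecHom_eq_iff _ _ (RingHom.ext fun r => by simp [evOf])]
      intro i j
      simp only [evOf, RingHom.comp_apply, MvPolynomial.eval₂Hom_X', ← map_mul, hprop i j]
    have hspan : Ideal.span (Set.range (Polynomial.C ∘ x)) = ⊤ := by
      have := congrArg (Ideal.map (Polynomial.C : K →+* Polynomial K)) hx
      rwa [Ideal.map_span, Ideal.map_top, ← Set.range_comp] at this
    refine ⟨vec (algebraMap k (Polynomial K)) (Polynomial.C ∘ x) hspan, vec_str .., ?_, ?_⟩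
    · rw [linePt, map_vec _ _ _ _ (by simpa [Function.comp_def] using hx), hA]
      exact vec_congr (RingHom.ext fun r => by simp) (funext fun i => by simp) _ _
    · rw [linePt, map_vec _ _ _ _ (by simpa [Function.comp_def] using hx), ← hAB, hA]
      exact vec_congr (RingHom.ext fun r => by simp) (funext fun i => by simp) _ _
  · simp only [not_forall] at hprop
    obtain ⟨i, j, hij⟩ := hprop
    let L : Fin (n + 1) → Polynomial K := fun a =>
      Polynomial.C (x a) + Polynomial.X * (Polynomial.C (y a) - Polynomial.C (x a))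
    have hspan : Ideal.span (Set.range L) = ⊤ := by
      rw [Ideal.eq_top_iff_one]
      have h1 : Polynomial.C (x i * y j - x j * y i) ∈ Ideal.span (Set.range L) := by
        have : Polynomial.C (x i * y j - x j * y i) =
            (Polynomial.C (y j) - Polynomial.C (x j)) * L i - (Polynomial.C (y i) - Polynomial.C (x i)) * L j := by
          simp only [L, map_sub, map_mul]
          ring
        rw [this]
        exact sub_mem (Ideal.mul_mem_left _ _ (Ideal.subset_span ⟨i, rfl⟩))
          (Ideal.mul_mem_left _ _ (Ideal.subset_span ⟨j, rfl⟩))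
      have h2 : IsUnit (Polynomial.C (x i * y j - x j * y i)) :=
        (isUnit_iff_ne_zero.2 (sub_ne_zero.2 hij)).map _
      exact (Ideal.eq_top_of_isUnit_mem _ h1 h2).ge trivial
    have he : ∀ (c : K) (z : Fin (n + 1) → K), (∀ a, (L a).eval c = z a) →
        Polynomial.evalRingHom c ∘ L = z := fun c z hz => funext hz
    refine ⟨vec (algebraMap k (Polynomial K)) L hspan, vec_str .., ?_, ?_⟩
    · rw [linePt, map_vec _ _ _ _ (by rw [he 0 x (fun a => by simp [L])]; exact hx), hA]
      exact vec_congr (RingHom.ext fun r => by simp) (he 0 x (fun a => by simp [L])) _ _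
    · rw [linePt, map_vec _ _ _ _ (by rw [he 1 y (fun a => by simp [L])]; exact hy), hB]
      exact vec_congr (RingHom.ext fun r => by simp) (he 1 y (fun a => by simp [L])) _ _

theorem elemLink_iso {Y Z : Scheme.{u}} (e : Y ≅ Z) (g : Y ⟶ Spec (CommRingCat.of k))
    (h : Z ⟶ Spec (CommRingCat.of k)) (he : e.hom ≫ h = g) {K : Type u} [Field K] [Algebra k K]
    (A B : REq.Pts g K) (A' B' : REq.Pts h K) (hA : A.1 ≫ e.hom = A'.1) (hB : B.1 ≫ e.hom = B'.1)
    (hl : REq.ElemLink h K A' B') : REq.ElemLink g K A B := by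
  obtain ⟨U, m, a, b, hm, ha, hb, hA1, hB1⟩ := hl
  refine ⟨U, m ≫ e.inv, a, b, ?_, ha, hb, ?_, ?_⟩
  · rw [← he, Category.assoc, e.inv_hom_id_assoc, hm]
  · rw [reassoc_of% hA1, ← hA, Category.assoc, e.hom_inv_id, Category.comp_id]
  · rw [reassoc_of% hB1, ← hB, Category.assoc, e.hom_inv_id, Category.comp_id]

end Groth.Agent.REq71
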